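import Cfsg.Agent.H713.Spor.B

/-!
# Perfect subgroups of the centralizer of an involution of the Baby Monster fix a transposition (helper329, for S2198)

`exists_transposition` : `u` an involution of `B`, `19` divides `|C_B(u)|`: there is a transposition `d` centralised by all the
perfect subgroups of `C_B(u)`.
-/

set_option autoImplicit false
set_option linter.unusedSectionVars false
set_option maxRecDepth 100000

namespace Cfsg.Agent.H329.Sec.Fixed

open Subgroup Cfsg Cfsg.Agent.R01.Lifts Cfsg.Agent.MonsterN Cfsg.Agent.MonsterN.Lit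
open Cfsg.Agent.BabyComp Cfsg.Agent.BabyComp.Main Cfsg.Agent.BabyComp.BaseTwo
open Cfsg.Agent.H713.Spor.BOf
open scoped commutatorElement

/-- a group which permutes `{d, u d}` and centralises `u`: the commutators fix `d` -/
theorem commutator_fix {X : Type*} [Group X] {A : Subgroup X} {u d : X} (huu : u * u = 1)
    (hu : ∀ a ∈ A, a * u = u * a) (hd : ∀ a ∈ A, a * d * a⁻¹ = d ∨ a * d * a⁻¹ = u * d) :
    ⁅A, A⁆ ≤ centralizer ({d} : Set X) := by
  have key : ∀ a ∈ A, ∀ b ∈ A, a * b * d * (a * b)⁻¹ = b * a * d * (b * a)⁻¹ := by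
    intro a ha b hb
    have h1 : ∀ x ∈ A, ∀ w : X, x * (u * w) * x⁻¹ = u * (x * w * x⁻¹) := by
      intro x hx w
      calc x * (u * w) * x⁻¹ = (x * u) * w * x⁻¹ := by group
        _ = (u * x) * w * x⁻¹ := by rw [hu x hx]
        _ = _ := by group
    have h2 : u * (u * d) = d := by rw [← mul_assoc, huu, one_mul]
    have h3 : a * b * d * (a * b)⁻¹ = a * (b * d * b⁻¹) * a⁻¹ := by group
    have h4 : b * a * d * (b * a)⁻¹ = b * (a * d * a⁻¹) * b⁻¹ := by group
    rw [h3, h4]
    rcases hd a ha with e1 | e1 <;> rcases hd b hb with e2 | e2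
    · rw [e1, e2, e1]
    · rw [e1, e2, h1 a ha, e1]
    · rw [e1, e2, h1 b hb, e2, e1]
    · rw [e1, e2, h1 a ha, h1 b hb, e1, e2]
  rw [commutator_le]
  intro a ha b hb
  rw [mem_centralizer_singleton_iff]
  have h5 := key a⁻¹ (A.inv_mem ha) b⁻¹ (A.inv_mem hb)
  have h6 : ⁅a, b⁆ * d * ⁅a, b⁆⁻¹ = d := by
    rw [commutatorElement_def]
    calc a * b * a⁻¹ * b⁻¹ * d * (a * b * a⁻¹ * b⁻¹)⁻¹ = a * b * (a⁻¹ * b⁻¹ * d * (a⁻¹ * b⁻¹)⁻¹) * (a * b)⁻¹ := by group
      _ = a * b * (b⁻¹ * a⁻¹ * d * (b⁻¹ * a⁻¹)⁻¹) * (a * b)⁻¹ := by rw [h5]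
      _ = d := by group
  exact mul_inv_eq_iff_eq_mul.1 h6

section

variable {B X E : Type*} [Group B] [Group X] [Group E] [Finite B] [Finite X] {q : B →* X} {τ : B} {R : Set E}
variable {y : ℕ → B} {h : Pre y} {π : KK y →* E} {f₁ f₂ f₃ f₄ : B} {p : ℕ}

/-- **The main statement, in the setting of the model.** -/
theorem exists_fixed {F : Type*} [Field F] [Fintype F] {hF : Fintype.card F = 2 ^ 2}
    (hR : Cfsg.Agent.BabyU.RootCfg.RootFacts hF R) (hX : Cfsg.Agent.BabyU.Key.Extra hF R)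
    (Rt : Cfsg.Agent.BabyU.Lab.Roots E R)
    (hq : Ext q τ) (h10 : y 10 = τ) (D : KD h R π) (Fc : FusionType.Facts τ f₁ f₂ f₃ f₄)
    {Γ : Type*} [Group Γ] [Finite Γ] {θ : B →* Γ} (hθ : Function.Injective θ) {z : Γ}
    (hcz : IsConj z (θ (τ * (f₁ * f₂)))) (hcd : IsConj z (θ (f₁ * f₂ * f₃)))
    (hc5 : IsConj f₁ (y 5)) (big : KEq.Big B τ (y 5)) {M₁ : Subgroup X} (Bs : Base2 (q (y 5)) M₁)
    (hp : p.Prime) (hp2 : p ≠ 2) (hpz : ¬ p ∣ Nat.card (centralizer ({z} : Set Γ))) {u : X} (hu : orderOf u = 2)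
    (hd : p ∣ Nat.card (centralizer ({u} : Set X))) :
    ∃ d : X, IsConj (q (y 5)) d ∧ ∀ A : Subgroup X, (∀ a ∈ A, a * u = u * a) →
      ⁅A, A⁆ ≤ centralizer ({d} : Set X) := by
  have hodd : Odd p := hp.odd_of_ne_two hp2
  have : Fact p.Prime := ⟨hp⟩
  obtain ⟨⟨v, hv⟩, hvo⟩ := exists_prime_orderOf_dvd_card' p hd
  rw [Subgroup.orderOf_mk] at hvo
  have hvp : v ^ p = 1 := by rw [← hvo, pow_orderOf_eq_one]
  obtain ⟨x, hx, rfl⟩ := exists_lift hq hodd hvp
  have hux : u * q x = q x * u := (mem_centralizer_singleton_iff.1 hv).symm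
  have hx1 : x ≠ 1 := by
    rintro rfl
    rw [map_one, orderOf_one] at hvo
    exact hp.one_lt.ne hvo
  have huu : u * u = 1 := by rw [← pow_two, ← hu, pow_orderOf_eq_one]
  have hu1 : u ≠ 1 := by
    rintro rfl
    rw [orderOf_one] at hu
    omega
  obtain ⟨b, rfl⟩ := hq.surj u
  have hbx := comm_of_map hq hodd hx hux
  have hbb : b * b = 1 ∨ b * b = τ := (hq.ker _).1 (by rw [map_mul, huu])
  rcases hbb with hbb | hbb
  · -- `u` is a transposition
    refine ⟨q b, ?_, fun A hA => ?_⟩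
    · have hxθ : (θ x) ^ p = 1 := by rw [← map_pow, hx, map_one]
      have hxθ1 : θ x ≠ 1 := fun h1 => hx1 (hθ (by rw [h1, map_one]))
      have hz : ∀ v : B, v * x = x * v → IsConj z (θ v) → p ∣ Nat.card (centralizer ({z} : Set Γ)) := by
        intro v hv hvz
        rw [← Cfsg.Agent.Blocks.SylowIn.card_centralizer_of_isConj hvz]
        exact dvd_of_comm hp hxθ hxθ1 (by rw [← map_mul, ← map_mul, hv])
      rcases Fc.classes b hbb (fun e => hu1 (by rw [e, map_one])) (fun e => hu1 (by rw [e, hq.mapz])) with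
        h1 | h1 | h1 | h1
      · exact q.map_isConj (hc5.symm.trans h1)
      · exfalso
        apply hpz
        refine hz (τ * b) ?_ (hcz.trans (θ.map_isConj (FusionType.conj_mul_t Fc.cen h1)))
        calc τ * b * x = τ * (b * x) := by group
          _ = (τ * x) * b := by rw [hbx]; group
          _ = x * (τ * b) := by rw [← hq.comm]; group
      · exact absurd (hz b hbx (hcz.trans (θ.map_isConj h1))) hpz
      · exact absurd (hz b hbx (hcd.trans (θ.map_isConj h1))) hpz
    · rw [commutator_le]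
      intro a ha c hc
      rw [mem_centralizer_singleton_iff]
      have h1 : Commute a (q b) := hA a ha
      have h2 : Commute c (q b) := hA c hc
      rw [commutatorElement_def]
      exact (((h1.mul_left h2).mul_left h1.inv_left).mul_left h2.inv_left).eq
  · have hM := BaseTwo.Base.eq_map hq h10 big Bs.toBase
    -- `u` has no conjugate in `M₁`
    have hno : ∀ g : X, g⁻¹ * q b * g ∉ M₁ := by
      intro g hg
      obtain ⟨c, rfl⟩ := hq.surj g
      obtain ⟨k, hk, hqk⟩ := M_le hq h10 big Bs.toBase _ hg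
      have hkk : k * k = 1 := by
        refine lift_sq hR hX Rt hq h10 D hk ?_
        rw [hqk]
        calc (q c)⁻¹ * q b * q c * ((q c)⁻¹ * q b * q c) = (q c)⁻¹ * (q b * q b) * q c := by group
          _ = 1 := by rw [huu]; group
      have h1 : q k = q (c⁻¹ * b * c) := by rw [hqk, map_mul, map_mul, map_inv]
      have h2 : k * k = τ := by
        have h3 : c⁻¹ * b * c * (c⁻¹ * b * c) = τ := by
          calc c⁻¹ * b * c * (c⁻¹ * b * c) = c⁻¹ * (b * b) * c := by group
            _ = c⁻¹ * (τ * c) := by rw [hbb, mul_assoc]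
            _ = c⁻¹ * (c * τ) := by rw [hq.comm]
            _ = τ := by group
        rcases hq.map_eq.1 h1 with h4 | h4
        · rw [h4, h3]
        · rw [h4]
          calc c⁻¹ * b * c * τ * (c⁻¹ * b * c * τ) = c⁻¹ * b * c * (τ * (c⁻¹ * b * c)) * τ := by group
            _ = c⁻¹ * b * c * (c⁻¹ * b * c * τ) * τ := by rw [hq.comm (c⁻¹ * b * c)]
            _ = (c⁻¹ * b * c * (c⁻¹ * b * c)) * (τ * τ) := by group
            _ = τ := by rw [h3, hq.zz, mul_one]
      rw [hkk] at h2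
      exact hq.zne h2.symm
    rcases Bs.classes (q b) huu hu1 with ⟨g, hg⟩ | ⟨d, hd', hc, hud⟩
    · exact absurd hg (hno g)
    · refine ⟨d, hd', fun A hA => commutator_fix huu hA ?_⟩
      intro a ha
      -- transport to `t`
      obtain ⟨g, rfl⟩ := isConj_iff.1 hd'
      set t := q (y 5) with ht
      have htt : t * t = 1 := by rw [ht, ← map_mul, h.sq 5 (by norm_num) (by norm_num), map_one]
      have htM : t ∈ M₁ := by rw [hM]; exact ⟨y 5, h.five_mem, rfl⟩
      obtain ⟨u', hu'⟩ : ∃ u', g⁻¹ * q b * g = u' := ⟨_, rfl⟩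
      have eu : q b = g * u' * g⁻¹ := by rw [← hu']; group
      have hut : u' * t = t * u' := by
        rw [eu] at hc
        calc u' * t = g⁻¹ * (g * u' * g⁻¹ * (g * t * g⁻¹)) * g := by group
          _ = g⁻¹ * (g * t * g⁻¹ * (g * u' * g⁻¹)) * g := by rw [hc]
          _ = t * u' := by group
      obtain ⟨e, he⟩ : ∃ e, t * u' = e := ⟨_, rfl⟩
      have hte : t * e = u' := by rw [← he, ← mul_assoc, htt, one_mul]
      have het : e * t = t * e := by
        rw [hte, ← he, mul_assoc, hut, ← mul_assoc, htt, one_mul]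
      have hce : IsConj t e := by
        refine hud.trans (isConj_iff.2 ⟨g⁻¹, ?_⟩)
        rw [← he, eu, inv_inv]
        calc g⁻¹ * (g * u' * g⁻¹ * (g * t * g⁻¹)) * g = u' * t := by group
          _ = t * u' := hut
      have heM : e ∉ M₁ := by
        intro h
        apply hno g
        rw [hu', ← hte]
        exact M₁.mul_mem htM h
      have hconj : ∀ a b : X, IsConj a (b * a * b⁻¹) := fun a b => isConj_iff.2 ⟨b, rfl⟩
      obtain ⟨a', ha'⟩ : ∃ a', g⁻¹ * a * g = a' := ⟨_, rfl⟩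
      have ea : a = g * a' * g⁻¹ := by rw [← ha']; group
      have hau : a' * u' = u' * a' := by
        rw [← hu', ← ha']
        calc g⁻¹ * a * g * (g⁻¹ * q b * g) = g⁻¹ * (a * q b) * g := by group
          _ = g⁻¹ * (q b * a) * g := by rw [hA a ha]
          _ = _ := by group
      have hat : (a' * t * a'⁻¹) * u' = u' * (a' * t * a'⁻¹) := by
        calc a' * t * a'⁻¹ * u' = a' * t * a'⁻¹ * (u' * a') * a'⁻¹ := by group
          _ = a' * t * a'⁻¹ * (a' * u') * a'⁻¹ := by rw [hau]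
          _ = a' * (t * u') * a'⁻¹ := by group
          _ = a' * (u' * t) * a'⁻¹ := by rw [hut]
          _ = (a' * u') * t * a'⁻¹ := by group
          _ = (u' * a') * t * a'⁻¹ := by rw [hau]
          _ = u' * (a' * t * a'⁻¹) := by group
      have key : a' * t * a'⁻¹ = t ∨ a' * t * a'⁻¹ = e := by
        refine Bs.uniq e (a' * t * a'⁻¹) hce het heM (hconj t a') ?_ ?_
        · rw [hte]
          exact hat
        · rw [hte, hat]
          have h1 : u' * (a' * t * a'⁻¹) = a' * e * a'⁻¹ := by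
            calc u' * (a' * t * a'⁻¹) = (u' * a') * t * a'⁻¹ := by group
              _ = a' * (u' * t) * a'⁻¹ := by rw [← hau]; group
              _ = a' * e * a'⁻¹ := by rw [hut, he]
          rw [h1]
          exact hce.trans (hconj e a')
      rcases key with h1 | h1
      · left
        rw [ea]
        calc g * a' * g⁻¹ * (g * t * g⁻¹) * (g * a' * g⁻¹)⁻¹ = g * (a' * t * a'⁻¹) * g⁻¹ := by group
          _ = g * t * g⁻¹ := by rw [h1]
      · right
        rw [ea, eu]
        calc g * a' * g⁻¹ * (g * t * g⁻¹) * (g * a' * g⁻¹)⁻¹ = g * (a' * t * a'⁻¹) * g⁻¹ := by group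
          _ = g * (t * u') * g⁻¹ := by rw [h1, he]
          _ = g * (u' * t) * g⁻¹ := by rw [hut]
          _ = g * u' * g⁻¹ * (g * t * g⁻¹) := by group

end

/-- **The statement for the Baby Monster.** -/
theorem exists_transposition {u : Spor.BabyMonster} (hu : orderOf u = 2)
    (hd : 19 ∣ Nat.card (centralizer ({u} : Set Spor.BabyMonster))) :
    ∃ d, IsConj (PresentedGroup.of Spor.BabyMonster.Gen.t1 : Spor.BabyMonster) d ∧
      ∀ A : Subgroup Spor.BabyMonster, (∀ a ∈ A, a * u = u * a) → ⁅A, A⁆ ≤ centralizer ({d} : Set Spor.BabyMonster) := by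
  refine CTwoTab.BInst.elim ?_
  intro K iF iT hK hF i1 i2 i3 i4 q y h π f₁ f₂ f₃ f₄ M₁ hq h10 DK Fc hz hcz hcd hL hc5 big hq5 hcard Bs hr
  obtain ⟨M₂, Bs2⟩ := BaseTwo.exists_base2 hq5
  have A := CTwoTab.BInst.all
  have h1 := exists_fixed (p := 19) (hF := hF) (Cfsg.Agent.TwoESix.LeviG.rootFacts hK hF)
    (Cfsg.Agent.BabyU.KeyInst.extra hF)
    (Cfsg.Agent.TwoESix.RootsInst.roots K hF) hq h10 DK Fc (Subgroup.subtype_injective _) hcz hcd hc5 big Bs2
    (by norm_num) (by norm_num) ?_ hu hd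
  · obtain ⟨d, hd1, hd2⟩ := h1
    exact ⟨d, hq5.symm.trans hd1, hd2⟩
  · rw [hz, Cfsg.Agent.H713.Spor.MOf.card_cent_z A.hG A.hR A.hL A.hO A.hT]
    norm_num

end Cfsg.Agent.H329.Sec.Fixed
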