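import Cfsg.Agent.H249.PPTwE6S
import Cfsg.Agent.H819.OverG

/-!
# `²E₆(2)` : no nontrivial `2`-subgroup is normalised by elements of order 17 and 19 (helper329, for S2198)
-/

set_option autoImplicit false

namespace Cfsg.Agent.H329.Sec.TwE6

open Cfsg Cfsg.Lie Subgroup Cfsg.Agent.H129 Cfsg.Agent.H129.CycT

/-- centralisers in a group with a self-centralising torus of odd order -/
theorem odd_of_torus {E : Type*} [Group E] [Finite E] {r : ℕ} (hr : r.Prime) (hr2 : ¬ r ^ 2 ∣ Nat.card E)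
    {T : Subgroup E} {n : ℕ} (hTn : Nat.card ↥T ∣ n) (hn : Odd n) (hrT : r ∣ Nat.card ↥T)
    (hcent : ∀ y ∈ T, orderOf y = r → centralizer ({y} : Set E) ≤ T) {y : E} (hy : orderOf y = r) :
    Odd (Nat.card (centralizer ({y} : Set E))) := by
  have : Fact r.Prime := ⟨hr⟩
  obtain ⟨t, ht⟩ := exists_prime_orderOf_dvd_card' r hrT
  have ht' : orderOf (t : E) = r := by rw [orderOf_coe, ht]
  have h7 : Nat.card (centralizer ({(t : E)} : Set E)) ∣ n :=
    (card_dvd_of_le (hcent t t.2 ht')).trans hTn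
  have hidx : ¬ r ∣ (zpowers (t : E)).index := by
    intro h
    apply hr2
    rw [← Subgroup.card_mul_index (zpowers (t : E)), Nat.card_zpowers, ht', pow_two]
    exact Nat.mul_dvd_mul_left r h
  have hpg : IsPGroup r (zpowers y) := IsPGroup.of_card (n := 1) (by rw [Nat.card_zpowers, hy, pow_one])
  obtain ⟨c, hc⟩ := Cfsg.Agent.H408.Core.exists_conj_le hr (U := zpowers y) (M := zpowers (t : E)) hpg hidx
  have h8 := hc y (mem_zpowers y)
  have h9 : zpowers (c * y * c⁻¹) = zpowers (t : E) := by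
    refine Subgroup.eq_of_le_of_card_ge (zpowers_le.2 h8) ?_
    rw [Nat.card_zpowers, Nat.card_zpowers, ht']
    have : orderOf (c * y * c⁻¹) = orderOf y := (MulAut.conj c).orderOf_eq y
    rw [this, hy]
  have h10 : (centralizer ({y} : Set E)).map (MulAut.conj c).toMonoidHom ≤ centralizer ({(t : E)} : Set E) := by
    rintro _ ⟨g, hg, rfl⟩
    have hg' : g * y = y * g := mem_centralizer_singleton_iff.1 hg
    have h11 : c * y * c⁻¹ ∈ centralizer ({c * g * c⁻¹} : Set E) := by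
      rw [mem_centralizer_singleton_iff]
      calc c * y * c⁻¹ * (c * g * c⁻¹) = c * (y * g) * c⁻¹ := by group
        _ = c * (g * y) * c⁻¹ := by rw [hg']
        _ = c * g * c⁻¹ * (c * y * c⁻¹) := by group
    have h12 : (t : E) ∈ centralizer ({c * g * c⁻¹} : Set E) := (zpowers_le.2 h11) (h9 ▸ mem_zpowers _)
    show c * g * c⁻¹ ∈ _
    rw [mem_centralizer_singleton_iff]
    exact (mem_centralizer_singleton_iff.1 h12).symm
  have h11 := card_dvd_of_le h10
  rw [← Nat.card_congr ((centralizer ({y} : Set E)).equivMapOfInjective _ (MulAut.conj c).injective).toEquiv] at h11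
  exact hn.of_dvd_nat (h11.trans h7)

/-- the order of a `2`-subgroup normalised by an element of order `r` with centraliser of odd order -/
theorem card_modEq {E : Type*} [Group E] [Finite E] {r : ℕ} [hr : Fact r.Prime] {y : E} (hy : orderOf y = r)
    (hodd : Odd (Nat.card (centralizer ({y} : Set E)))) {T : Subgroup E} (hT : IsPGroup 2 ↥T)
    (hyT : ∀ t ∈ T, y * t * y⁻¹ ∈ T) : Nat.card ↥T ≡ 1 [MOD r] := by
  have h1 := Cfsg.Agent.H819.OverG.fix_modEq (p := r) (y := y) (by rw [← hy, pow_orderOf_eq_one]) T hyT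
  have h2 : Nat.card ↥(T ⊓ centralizer ({y} : Set E)) = 1 := by
    have h3 : IsPGroup 2 ↥(T ⊓ centralizer ({y} : Set E)) := hT.to_le inf_le_left
    obtain ⟨k, hk⟩ := IsPGroup.iff_card.1 h3
    rcases Nat.eq_zero_or_pos k with rfl | hk0
    · rw [hk, pow_zero]
    · exfalso
      have h4 : Nat.card ↥(T ⊓ centralizer ({y} : Set E)) ∣ Nat.card (centralizer ({y} : Set E)) :=
        card_dvd_of_le inf_le_right
      rw [hk] at h4
      have h5 : 2 ∣ Nat.card (centralizer ({y} : Set E)) := (dvd_pow_self 2 hk0.ne').trans h4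
      rw [← Nat.not_even_iff_odd] at hodd
      exact hodd (even_iff_two_dvd.2 h5)
  rwa [h2] at h1

theorem arith {m : ℕ} (h17 : 2 ^ m ≡ 1 [MOD 17]) (h19 : 2 ^ m ≡ 1 [MOD 19]) (hm : m ≤ 36) : m = 0 := by
  interval_cases m
  all_goals first | rfl | (exfalso; revert h17; decide) | (exfalso; revert h19; decide)

theorem card_twE6 {K : Type} [Field K] [Fintype K] (hK : Fintype.card K = 2 ^ 2) :
    Nat.card ↥(twistedE6 K 2) = 76532479683774853939200 := by
  have hcard : Nat.gcd 3 (2 + 1) * Nat.card ↥(twistedE6 K 2) = _ := S1066.result Nat.prime_two.isPrimePow hK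
  norm_num at hcard
  omega

theorem odd_19 {K : Type} [Field K] [Fintype K] (hK : Fintype.card K = 2 ^ 2) {y : ↥(twistedE6 K 2)}
    (hy : orderOf y = 19) : Odd (Nat.card (centralizer ({y} : Set ↥(twistedE6 K 2)))) :=
  (show Odd 57 by decide).of_dvd_nat (Cfsg.Agent.H249.PPTwE6.cent_dvd hK y hy)

theorem torus_8 {K : Type} [Field K] [Fintype K] (hK : Fintype.card K = 2 ^ 2) :
    ∃ T : Subgroup ↥(twistedE6 K 2), Nat.card ↥T ∣ 51 ∧ 51 ∣ Nat.gcd 3 (2 + 1) * Nat.card ↥T ∧
      ∀ y ∈ T, orderOf y = 17 → Subgroup.centralizer {y} ≤ T := by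
  have hq : IsPrimePow 2 := Nat.prime_two.isPrimePow
  have hr : Nat.Prime 17 := by norm_num
  obtain ⟨T, h1, h3, h4, h5, -⟩ := TwT.flip_T hq hK DataTE6e.hA DataTE6e.chainOK DataTE6e.hd_pi DataTE6e.cycOK
    DataTE6e.rootOK DataTE6e.chain2OK DataTE6e.hd2_eq (N := 51) (by rw [DataTE6e.fN_eq]; norm_num)
    (by norm_num)
  refine ⟨T, h3, h4, h5 17 hr (not_dvd_W_E6 hr (by norm_num) (by norm_num) (by norm_num)) fun s hs => ?_⟩
  rcases DataTE6e.dvd_of_G (show ((17 : ℕ) : ℤ) ∣ _ by norm_num) s hs with h | h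
  · exact not_one hr h
  · exact not_prime hr Nat.prime_two (by norm_num) h

theorem odd_17 {K : Type} [Field K] [Fintype K] (hK : Fintype.card K = 2 ^ 2) {y : ↥(twistedE6 K 2)}
    (hy : orderOf y = 17) : Odd (Nat.card (centralizer ({y} : Set ↥(twistedE6 K 2)))) := by
  have hcard := card_twE6 hK
  have hf : Finite ↥(twistedE6 K 2) := Nat.finite_of_card_ne_zero (by rw [hcard]; norm_num)
  obtain ⟨T, h2, h3, h4⟩ := torus_8 hK
  have hr : Nat.Prime 17 := by norm_num
  have h5 : 17 ∣ Nat.card T := by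
    have h6 : 17 ∣ Nat.gcd 3 (2 + 1) * Nat.card T := Dvd.dvd.trans (by norm_num) h3
    exact (hr.dvd_mul.1 h6).resolve_left (by decide)
  exact odd_of_torus hr (by rw [hcard]; norm_num) h2 (by decide) h5 h4 hy

/-- **The statement.** -/
theorem eq_bot {K : Type} [Field K] [Fintype K] (hK : Fintype.card K = 4) {T : Subgroup ↥(twistedE6 K 2)}
    (hT : IsPGroup 2 ↥T) {y₁ y₂ : ↥(twistedE6 K 2)} (h1 : orderOf y₁ = 17) (h2 : orderOf y₂ = 19)
    (h3 : ∀ t ∈ T, y₁ * t * y₁⁻¹ ∈ T) (h4 : ∀ t ∈ T, y₂ * t * y₂⁻¹ ∈ T) : T = ⊥ := by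
  have hK' : Fintype.card K = 2 ^ 2 := by rw [hK]; norm_num
  have hcard := card_twE6 hK'
  have hf : Finite ↥(twistedE6 K 2) := Nat.finite_of_card_ne_zero (by rw [hcard]; norm_num)
  have i17 : Fact (Nat.Prime 17) := ⟨by norm_num⟩
  have i19 : Fact (Nat.Prime 19) := ⟨by norm_num⟩
  have h5 := card_modEq h1 (odd_17 hK' h1) hT h3
  have h6 := card_modEq h2 (odd_19 hK' h2) hT h4
  obtain ⟨m, hm⟩ := IsPGroup.iff_card.1 hT
  rw [hm] at h5 h6
  have h7 : m ≤ 36 := by
    by_contra hlt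
    have h8 : 2 ^ 37 ∣ Nat.card ↥(twistedE6 K 2) :=
      (pow_dvd_pow 2 (show 37 ≤ m by omega)).trans (by rw [← hm]; exact card_subgroup_dvd_card T)
    rw [hcard] at h8
    norm_num at h8
  have h8 := arith h5 h6 h7
  rw [h8, pow_zero] at hm
  exact card_eq_one.1 hm

end Cfsg.Agent.H329.Sec.TwE6
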