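import Cfsg.Agent.H329.Sec.Gen
import Cfsg.Agent.H329.Sec.TwE6
import Cfsg.Agent.H329.Sec.Fixed
import Cfsg.Agent.S3293

/-!
# Covers of a simple group of order divisible by 17 and 19 in the Baby Monster (helper329, for S2198)

`odd_ker` : `A ≤ B` perfect, `f : A → J` onto with nilpotent kernel whose elements of odd order are central, `J` simple of
order divisible by `17` and `19` with multiplier of odd order: the kernel has odd order.
-/

set_option autoImplicit false
set_option maxRecDepth 100000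

namespace Cfsg.Agent.H329.Sec.BLev

open Subgroup Cfsg Cfsg.Lie
open scoped commutatorElement

theorem card_b : Nat.card Spor.BabyMonster = 4154781481226426191177580544000000 :=
  (S1704.result : Cfsg.IsB Cfsg.Spor.BabyMonster).2

theorem finite_B : Finite Spor.BabyMonster := CTwoTab.BInst.finite_B

/-- a prime dividing `|J|` whose square does not divide `|X|` does not divide the order of the kernel -/
theorem not_dvd_ker {X : Type*} [Group X] [Finite X] {A : Subgroup X} {J : Type*} [Group J] {f : ↥A →* J} (h : Cov f)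
    {p : ℕ} (hpJ : p ∣ Nat.card J) (hp2 : ¬ p ^ 2 ∣ Nat.card X) : ¬ p ∣ Nat.card f.ker := by
  intro h1
  apply hp2
  refine Dvd.dvd.trans ?_ (card_subgroup_dvd_card A)
  rw [h.card, pow_two]
  exact Nat.mul_dvd_mul h1 hpJ

/-- the section `²E₆(2)` of the centralizer of a transposition -/
theorem exists_sec {d : Spor.BabyMonster}
    (hd : IsConj (PresentedGroup.of Spor.BabyMonster.Gen.t1 : Spor.BabyMonster) d) :
    ∃ (K : Type) (_ : Field K) (_ : Fintype K) (_ : Fintype.card K = 4)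
      (X₀ : Subgroup Spor.BabyMonster) (σ : ↥X₀ →* Lie.twistedE6 K 2), BabyComp.Sec.Data d σ := by
  obtain ⟨K, i1, i2, hK, t, X₀, σ, HD, ht, -⟩ := CTwoTab.BInst.exists_sec
  obtain ⟨c, hc⟩ := isConj_iff.1 (ht.trans hd)
  have h1 := HD.comap (MulAut.conj c⁻¹)
  have h2 : (MulAut.conj c⁻¹).symm t = d := by
    rw [MulEquiv.symm_apply_eq, MulAut.conj_apply, ← hc]
    group
  rw [h2] at h1
  exact ⟨K, i1, i2, hK, _, _, h1⟩

/-- **The kernel has odd order.** -/
theorem odd_ker {A : Subgroup Spor.BabyMonster} {J : Type} [Group J] [IsSimpleGroup J] {f : ↥A →* J} (h : Cov f)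
    (ho : OddCentral f) (h17 : 17 ∣ Nat.card J) (h19 : 19 ∣ Nat.card J) {k : ℕ} (hm : HasCyclicSchurMultiplier J k)
    (hk : ¬ 2 ∣ k) : ¬ 2 ∣ Nat.card f.ker := by
  intro h2
  have hfin := finite_B
  have i2 : Fact (Nat.Prime 2) := ⟨Nat.prime_two⟩
  have i17 : Fact (Nat.Prime 17) := ⟨by norm_num⟩
  have i19 : Fact (Nat.Prime 19) := ⟨by norm_num⟩
  have k17 : ¬ 17 ∣ Nat.card f.ker := not_dvd_ker h h17 (by rw [card_b]; norm_num)
  have k19 : ¬ 19 ∣ Nat.card f.ker := not_dvd_ker h h19 (by rw [card_b]; norm_num)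
  obtain ⟨u, hu1, hu2, huc⟩ := h.exists_two h2 (d := 14) (rank_sub (S3293.result.{0}).1.2 A) (p := 19) (by norm_num)
    (by norm_num) h19 k19 (by intro i h1 h2; interval_cases i <;> norm_num)
  have hAu : ∀ a ∈ A, a * (u : Spor.BabyMonster) = u * a := fun a ha =>
    congrArg Subtype.val (mem_center_iff.1 huc ⟨a, ha⟩)
  have huo : orderOf (u : Spor.BabyMonster) = 2 := by rw [Subgroup.orderOf_coe, hu2]
  obtain ⟨y₁, hy₁, -⟩ := h.exists_prime h17 k17
  obtain ⟨y₂, hy₂, -⟩ := h.exists_prime h19 k19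
  have hAle : A ≤ centralizer ({(u : Spor.BabyMonster)} : Set Spor.BabyMonster) := fun a ha =>
    mem_centralizer_singleton_iff.2 (hAu a ha)
  have hd19 : 19 ∣ Nat.card (centralizer ({(u : Spor.BabyMonster)} : Set Spor.BabyMonster)) := by
    refine Dvd.dvd.trans ?_ (card_dvd_of_le hAle)
    rw [← hy₂]
    exact orderOf_dvd_natCard _
  obtain ⟨d, hd, hfix⟩ := Fixed.exists_transposition huo hd19
  have hAd : A ≤ centralizer ({d} : Set Spor.BabyMonster) := by
    have h1 := hfix A hAu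
    rwa [commutator_self h.perf] at h1
  obtain ⟨K, i1, i3, hK, X₀, σ, HD⟩ := exists_sec hd
  have hAX : A ≤ X₀ := HD.perf A hAd (commutator_self h.perf)
  let σ' : ↥A →* ↥(twistedE6 K 2) := σ.comp (Subgroup.inclusion hAX)
  have hσ : ∀ a : ↥A, σ' a = 1 → (a : Spor.BabyMonster) = 1 ∨ (a : Spor.BabyMonster) = d := by
    intro a ha
    exact (HD.ker _).1 ha
  have hdd : d * d = 1 := HD.t_sq
  have horder : ∀ {p : ℕ} (_ : p.Prime) (_ : p ≠ 2) {y : ↥A}, orderOf y = p → orderOf (σ' y) = p := by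
    intro p hp hp2 y hy
    have h1 : orderOf (σ' y) ∣ p := by rw [← hy]; exact orderOf_map_dvd σ' y
    rcases (Nat.dvd_prime hp).1 h1 with h3 | h3
    · exfalso
      have h4 : (y : Spor.BabyMonster) * y = 1 := by
        rcases hσ y (orderOf_eq_one_iff.1 h3) with h5 | h5
        · rw [h5, one_mul]
        · rw [h5, hdd]
      have h5 : orderOf (y : Spor.BabyMonster) ∣ 2 := orderOf_dvd_of_pow_eq_one (by rw [pow_two, h4])
      rw [Subgroup.orderOf_coe, hy] at h5
      exact hp2 ((Nat.prime_dvd_prime_iff_eq hp Nat.prime_two).1 h5)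
    · exact h3
  obtain ⟨P⟩ : Nonempty (Sylow 2 f.ker) := inferInstance
  have hTn := h.sylow_normal P
  have hT' : (((P : Subgroup f.ker).map f.ker.subtype).map σ') = ⊥ := by
    refine TwE6.eq_bot hK ((P.isPGroup'.map _).map _) (horder i17.out (by norm_num) hy₁)
      (horder i19.out (by norm_num) hy₂) ?_ ?_
    · rintro _ ⟨t, ht, rfl⟩
      exact ⟨y₁ * t * y₁⁻¹, hTn.conj_mem t ht y₁, by rw [map_mul, map_mul, map_inv]⟩
    · rintro _ ⟨t, ht, rfl⟩
      exact ⟨y₂ * t * y₂⁻¹, hTn.conj_mem t ht y₂, by rw [map_mul, map_mul, map_inv]⟩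
  have hker : f.ker ≤ center ↥A := by
    refine ho.le_center fun x hx hk => ?_
    obtain ⟨k, hxk⟩ := hk
    have h1 := h.mem_sylow P hx hxk
    have h3 : σ' x = 1 := by
      have h4 : σ' x ∈ (((P : Subgroup f.ker).map f.ker.subtype).map σ') := ⟨x, h1, rfl⟩
      rwa [hT', mem_bot] at h4
    rw [mem_center_iff]
    intro a
    apply Subtype.ext
    change (a : Spor.BabyMonster) * x = x * a
    rcases hσ x h3 with h4 | h4
    · rw [h4, one_mul, mul_one]
    · rw [h4]
      exact mem_centralizer_singleton_iff.1 (hAd a.2)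
  exact hk (h2.trans (h.card_dvd hker hm))

end Cfsg.Agent.H329.Sec.BLev
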