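import Mathlib
import Cfsg.Prelude.Def_KGroupFacts
import Cfsg.Prelude.Def_CaseTheorems
import Cfsg.Agent.H819.OverG

/-!
# Sections of a finite group isomorphic to a simple group: minimal covers (helper329, for S2198)

`Cov f` : `f : A → J` is onto, `A` perfect and the kernel is nilpotent.

* `exists_cov` : a section `A / B ≅ J` of `X`, `J` simple and not commutative: there are a subgroup `A'` of `X`
  and `f : A' → J` with `Cov f`;
* `Cov.eq_top` : a normal subgroup of `A` not in the kernel is `A`;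
* `Cov.le_center` : a normal subgroup centralised by the elements of order `p` is central;
* `Cov.odd` : under an arithmetic condition the elements of odd order of the kernel are central;
* `Cov.card_dvd` : the order of a central kernel divides the order of the (cyclic) Schur multiplier;
* `Cov.exists_two` : a central involution in the kernel, if the `2`-rank of `A` is small.
-/

set_option autoImplicit false
set_option linter.unusedSectionVars false

namespace Cfsg.Agent.H329.Sec

open Subgroup Cfsg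
open scoped commutatorElement

universe u v

/-- `f : A → J` onto, `A` perfect, the kernel nilpotent. -/
structure Cov {A : Type u} {J : Type v} [Group A] [Group J] (f : A →* J) : Prop where
  surj : Function.Surjective f
  perf : commutator A = ⊤
  nil : Group.IsNilpotent f.ker

/-! ### Existence -/

theorem commutator_eq_top {J : Type v} [Group J] [IsSimpleGroup J] (hJ : ¬ IsMulCommutative J) :
    commutator J = ⊤ := by
  rcases IsSimpleGroup.eq_bot_or_eq_top_of_normal (commutator J) inferInstance with h | h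
  · exfalso
    apply hJ
    refine ⟨⟨fun a b => ?_⟩⟩
    have h1 : ⁅a, b⁆ ∈ commutator J := commutator_mem_commutator (mem_top a) (mem_top b)
    rw [h, mem_bot] at h1
    exact commutatorElement_eq_one_iff_mul_comm.1 h1
  · exact h

theorem exists_cov {X : Type u} [Group X] [Finite X] {J : Type v} [Group J] [IsSimpleGroup J]
    (hJ : ¬ IsMulCommutative J) (A : Subgroup X) (g : ↥A →* J) (hg : Function.Surjective g) :
    ∃ (A' : Subgroup X) (f : ↥A' →* J), Cov f := by
  classical
  have hex : ∃ n : ℕ, ∃ A' : Subgroup X, Nat.card ↥A' = n ∧ ∃ f : ↥A' →* J, Function.Surjective f :=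
    ⟨_, A, rfl, g, hg⟩
  obtain ⟨A', hcard, f, hf⟩ := Nat.find_spec hex
  have hmin : ∀ B : Subgroup X, (∃ f : ↥B →* J, Function.Surjective f) → Nat.card ↥A' ≤ Nat.card ↥B := by
    intro B hB
    rw [hcard]
    exact Nat.find_min' hex ⟨B, rfl, hB⟩
  have hker : f.ker ≤ frattini ↥A' := by
    unfold frattini Order.radical
    refine le_iInf₂ fun M₀ hM => ?_
    by_contra hle
    have h1 : M₀ ⊔ f.ker = ⊤ := hM.2 _ (lt_of_le_of_ne le_sup_left fun h => hle (by rw [h]; exact le_sup_right))
    have h2 : Function.Surjective (f.comp M₀.subtype) := by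
      intro j
      obtain ⟨a, rfl⟩ := hf j
      have h3 : a ∈ M₀ ⊔ f.ker := by rw [h1]; exact mem_top a
      rw [sup_comm] at h3
      obtain ⟨k, hk, m, hm, rfl⟩ := (mem_sup_of_normal_left (s := f.ker)).1 h3
      refine ⟨⟨m, hm⟩, ?_⟩
      rw [map_mul, MonoidHom.mem_ker.1 hk, one_mul]
      rfl
    let e : ↥M₀ ≃* ↥(M₀.map A'.subtype) := M₀.equivMapOfInjective _ A'.subtype_injective
    have h3 := hmin (M₀.map A'.subtype) ⟨(f.comp M₀.subtype).comp e.symm.toMonoidHom,
      h2.comp e.symm.surjective⟩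
    rw [← Nat.card_congr e.toEquiv] at h3
    exact hM.1 (eq_top_of_card_eq _ (le_antisymm (card_le_card_group _) h3))
  refine ⟨A', f, hf, ?_, ?_⟩
  · apply frattini_nongenerating
    rw [eq_top_iff, ← sup_comm]
    intro a _
    have h1 : (commutator ↥A').map f = ⊤ := by
      rw [commutator_def, map_commutator, ← MonoidHom.range_eq_map, MonoidHom.range_eq_top.2 hf,
        ← commutator_def, commutator_eq_top hJ]
    obtain ⟨c, hc, hca⟩ : f a ∈ (commutator ↥A').map f := by rw [h1]; exact mem_top _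
    have h2 : a * c⁻¹ ∈ f.ker := by rw [MonoidHom.mem_ker, map_mul, map_inv, hca, mul_inv_cancel]
    have h3 := mul_mem_sup (hker h2) hc
    rwa [inv_mul_cancel_right] at h3
  · have := frattini_nilpotent (G := ↥A')
    have h1 : Function.Injective (Subgroup.inclusion hker) := Subgroup.inclusion_injective hker
    refine Subgroup.isNilpotent_of_ker_le_center (Subgroup.inclusion hker) ?_
    rw [(MonoidHom.ker_eq_bot_iff _).2 h1]
    exact bot_le

/-! ### Normal subgroups -/

section

variable {A : Type u} {J : Type v} [Group A] [Group J] [Finite A] {f : A →* J}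

omit [Finite A] in
/-- A perfect nilpotent group is trivial. -/
theorem subsingleton_of_perfect {Q : Type*} [Group Q] (hn : Group.IsNilpotent Q) (hp : commutator Q = ⊤) :
    Subsingleton Q := by
  by_contra h
  rw [not_subsingleton_iff_nontrivial] at h
  have h1 : Group.IsSolvable Q := inferInstance
  exact (Group.IsSolvable.commutator_lt_top_of_nontrivial Q).ne hp

theorem Cov.eq_top [IsSimpleGroup J] (h : Cov f) {N : Subgroup A} [hN : N.Normal] (hNk : ¬ N ≤ f.ker) : N = ⊤ := by
  have h1 : (N.map f).Normal := hN.map f h.surj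
  have h2 : N.map f = ⊤ := by
    rcases h1.eq_bot_or_eq_top with h2 | h2
    · exact absurd ((map_eq_bot_iff N).1 h2) hNk
    · exact h2
  have h3 : Function.Surjective ((QuotientGroup.mk' N).comp f.ker.subtype) := by
    intro q
    obtain ⟨a, rfl⟩ := QuotientGroup.mk'_surjective N q
    obtain ⟨n, hn, hna⟩ : f a ∈ N.map f := by rw [h2]; exact mem_top _
    have h4 : a * n⁻¹ ∈ f.ker := by rw [MonoidHom.mem_ker, map_mul, map_inv, hna, mul_inv_cancel]
    refine ⟨⟨a * n⁻¹, h4⟩, ?_⟩
    change QuotientGroup.mk' N (a * n⁻¹) = _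
    have h5 : QuotientGroup.mk' N n⁻¹ = 1 := (QuotientGroup.eq_one_iff n⁻¹).2 (N.inv_mem hn)
    rw [map_mul, h5, mul_one]
  have hnil := h.nil
  have h4 : Group.IsNilpotent (A ⧸ N) := Group.nilpotent_of_surjective _ h3
  have h5 : commutator (A ⧸ N) = ⊤ := by
    have h6 := congrArg (Subgroup.map (QuotientGroup.mk' N)) h.perf
    rwa [_root_.commutator_def, map_commutator, ← MonoidHom.range_eq_map,
      MonoidHom.range_eq_top.2 (QuotientGroup.mk'_surjective N)] at h6
  have h6 := subsingleton_of_perfect h4 h5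
  rw [eq_top_iff]
  intro a _
  exact (QuotientGroup.eq_one_iff a).1 (Subsingleton.elim _ _)

/-- A normal subgroup centralised by an element outside the kernel is central. -/
theorem Cov.le_center [IsSimpleGroup J] (h : Cov f) {V : Subgroup A} [hV : V.Normal] {y : A} (hy : f y ≠ 1)
    (hyV : ∀ v ∈ V, y * v = v * y) : V ≤ center A := by
  have h1 : (centralizer (V : Set A)).Normal := inferInstance
  have h2 : centralizer (V : Set A) = ⊤ := by
    apply h.eq_top
    intro h3
    apply hy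
    exact h3 (mem_centralizer_iff.2 fun v hv => (hyV v hv).symm)
  intro v hv
  rw [mem_center_iff]
  intro a
  have h3 : a ∈ centralizer (V : Set A) := by rw [h2]; exact mem_top a
  exact (mem_centralizer_iff.1 h3 v hv).symm

theorem Cov.card (h : Cov f) : Nat.card A = Nat.card f.ker * Nat.card J := by
  rw [← f.ker.card_mul_index, Subgroup.index_ker, MonoidHom.range_eq_top.2 h.surj, card_top]

/-- an element of order `p` outside the kernel -/
theorem Cov.exists_prime (h : Cov f) {p : ℕ} [hp : Fact p.Prime] (hpJ : p ∣ Nat.card J)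
    (hpk : ¬ p ∣ Nat.card f.ker) : ∃ y : A, orderOf y = p ∧ f y ≠ 1 := by
  have h1 : p ∣ Nat.card A := by
    rw [h.card]
    exact hpJ.mul_left _
  obtain ⟨y, hy⟩ := exists_prime_orderOf_dvd_card' p h1
  refine ⟨y, hy, fun h2 => hpk ?_⟩
  have h3 : orderOf (⟨y, MonoidHom.mem_ker.2 h2⟩ : f.ker) = p := by rw [Subgroup.orderOf_mk, hy]
  rw [← h3]
  exact orderOf_dvd_natCard _

/-- **A normal subgroup `V` with `p ∤ |Aut V|` is central.** -/
theorem Cov.central_of_arith [IsSimpleGroup J] (h : Cov f) {p : ℕ} [hp : Fact p.Prime] (hpJ : p ∣ Nat.card J)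
    (hpk : ¬ p ∣ Nat.card f.ker) {V : Subgroup A} [hV : V.Normal] (har : H819.OverG.Ar p (Nat.card ↥V)) :
    V ≤ center A := by
  obtain ⟨y, hy, hy1⟩ := h.exists_prime hpJ hpk
  exact h.le_center hy1 (H819.OverG.comm_of_arith (by rw [← hy, pow_orderOf_eq_one])
    (fun n hn => hV.conj_mem n hn y) har)

/-- the Sylow subgroups of the kernel are normal -/
theorem Cov.sylow_normal (h : Cov f) {r : ℕ} [hr : Fact r.Prime] (P : Sylow r f.ker) :
    ((P : Subgroup f.ker).map f.ker.subtype).Normal := by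
  have h1 : (P : Subgroup f.ker).Normal :=
    ((Group.isNilpotent_of_finite_tfae (G := f.ker)).out 0 3 rfl rfl).1 h.nil r hr P
  have h2 := Sylow.characteristic_of_normal P h1
  exact ConjAct.normal_of_characteristic_of_normal

/-- the `r`-elements of the kernel are in the Sylow `r`-subgroup of the kernel -/
theorem Cov.mem_sylow (h : Cov f) {r : ℕ} [hr : Fact r.Prime] (P : Sylow r f.ker) {x : A} (hx : f x = 1) {k : ℕ}
    (hxk : x ^ r ^ k = 1) : x ∈ (P : Subgroup f.ker).map f.ker.subtype := by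
  have h1 : (P : Subgroup f.ker).Normal :=
    ((Group.isNilpotent_of_finite_tfae (G := f.ker)).out 0 3 rfl rfl).1 h.nil r hr P
  let x' : f.ker := ⟨x, MonoidHom.mem_ker.2 hx⟩
  have h2 : IsPGroup r ↥(zpowers x') := by
    have h3 : orderOf x' ∣ r ^ k := orderOf_dvd_of_pow_eq_one (Subtype.ext hxk)
    obtain ⟨j, -, hj⟩ := (Nat.dvd_prime_pow hr.out).1 h3
    exact IsPGroup.of_card (n := j) (by rw [Nat.card_zpowers, hj])
  obtain ⟨Q, hQ⟩ := h2.exists_le_sylow
  have h4 := Sylow.unique_of_normal P h1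
  have h5 : Q = P := Subsingleton.elim _ _
  rw [h5] at hQ
  exact ⟨x', hQ (mem_zpowers x'), rfl⟩

theorem ar_pow {p r k : ℕ} (hr : r.Prime) (hpr : p.Prime) (hne : p ≠ r) (h : ∀ i, 1 ≤ i → i ≤ k → ¬ p ∣ r ^ i - 1) :
    H819.OverG.Ar p (r ^ k) := by
  refine ⟨fun h1 => hne ((Nat.prime_dvd_prime_iff_eq hpr hr).1 (hpr.dvd_of_dvd_pow h1)), ?_⟩
  intro s i hs hi h1
  have h2 : s = r := (Nat.prime_dvd_prime_iff_eq hs hr).1 (hs.dvd_of_dvd_pow ((dvd_pow_self s (by omega)).trans h1))
  subst h2
  exact h i hi ((Nat.pow_dvd_pow_iff_le_right hs.one_lt).1 h1)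

/-- **The Sylow `r`-subgroup of the kernel is central**, if `p ∤ r ^ i - 1` for `r ^ i ∣ |ker f|`. -/
theorem Cov.sylow_le_center [IsSimpleGroup J] (h : Cov f) {r : ℕ} [hr : Fact r.Prime] (P : Sylow r f.ker)
    (har : ∃ p : ℕ, p.Prime ∧ p ∣ Nat.card J ∧ ¬ p ∣ Nat.card f.ker ∧
      ∀ i, 1 ≤ i → r ^ i ∣ Nat.card f.ker → ¬ p ∣ r ^ i - 1) :
    (P : Subgroup f.ker).map f.ker.subtype ≤ center A := by
  obtain ⟨p, hp, hpJ, hpk, har⟩ := har
  have := Fact.mk hp
  have := h.sylow_normal P
  obtain ⟨k, hk⟩ := IsPGroup.iff_card.1 P.isPGroup'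
  have hc : Nat.card ↥((P : Subgroup f.ker).map f.ker.subtype) = r ^ k := by
    rw [← hk]
    exact (Nat.card_congr (equivMapOfInjective _ f.ker.subtype f.ker.subtype_injective).toEquiv).symm
  have hkd : r ^ k ∣ Nat.card f.ker := by
    rw [← hk]
    exact card_subgroup_dvd_card _
  apply h.central_of_arith hpJ hpk
  rw [hc]
  rcases Nat.eq_zero_or_pos k with rfl | hk0
  · rw [pow_zero]
    refine ⟨fun h1 => hp.one_lt.ne' (Nat.dvd_one.1 h1), fun s i hs hi h1 => ?_⟩
    exact absurd h1 (fun h2 => (Nat.one_lt_pow (by omega) hs.one_lt).ne' (Nat.dvd_one.1 h2))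
  refine ar_pow hr.out hp ?_ fun i hi hik => har i hi ((pow_dvd_pow r hik).trans hkd)
  rintro rfl
  exact hpk ((dvd_pow_self p hk0.ne').trans hkd)

omit [Finite A] in
/-- In a perfect group cyclic normal subgroups are central. -/
theorem cyclic_le_center {H : Type*} [Group H] (hH : commutator H = ⊤) (C : Subgroup H)
    (hC : C.Normal) (hcyc : IsCyclic C) : C ≤ center H := by
  have hcom : ∀ a b : MulAut C, a * b = b * a := by
    intro a b
    apply (hcyc.mulAutMulEquiv C).injective
    rw [map_mul, map_mul, mul_comm]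
  have hker : (MulAut.conjNormal (H := C)).ker = ⊤ := by
    rw [eq_top_iff, ← hH, commutator_eq_closure, Subgroup.closure_le]
    rintro _ ⟨a, b, rfl⟩
    change MulAut.conjNormal ⁅a, b⁆ = 1
    rw [map_commutatorElement, commutatorElement_eq_one_iff_mul_comm]
    exact hcom _ _
  intro c hc
  rw [Subgroup.mem_center_iff]
  intro g
  have h1 : MulAut.conjNormal (H := C) g = 1 := by
    have : g ∈ (MulAut.conjNormal (H := C)).ker := by rw [hker]; exact Subgroup.mem_top g
    exact this
  have h2 : g * c * g⁻¹ = c := by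
    have := congrArg (fun φ : MulAut C => ((φ ⟨c, hc⟩ : C) : H)) h1
    simpa [MulAut.conjNormal_apply] using this
  exact mul_inv_eq_iff_eq_mul.1 h2

/-- the Sylow `r`-subgroup of the kernel is central if its order is at most `r` -/
theorem Cov.sylow_le_center_one (h : Cov f) {r : ℕ} [hr : Fact r.Prime] (P : Sylow r f.ker)
    (h2 : ¬ r ^ 2 ∣ Nat.card f.ker) : (P : Subgroup f.ker).map f.ker.subtype ≤ center A := by
  have h0 := h.sylow_normal P
  obtain ⟨k, hk⟩ := IsPGroup.iff_card.1 P.isPGroup'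
  have hc : Nat.card ↥((P : Subgroup f.ker).map f.ker.subtype) = r ^ k := by
    rw [← hk]
    exact (Nat.card_congr (equivMapOfInjective _ f.ker.subtype f.ker.subtype_injective).toEquiv).symm
  have hkd : r ^ k ∣ Nat.card f.ker := by
    rw [← hk]
    exact card_subgroup_dvd_card _
  have hk1 : k ≤ 1 := by
    by_contra hlt
    exact h2 ((pow_dvd_pow r (by omega)).trans hkd)
  rcases Nat.eq_zero_or_pos k with rfl | hk0
  · rw [pow_zero] at hc
    rw [card_eq_one.1 hc]
    exact bot_le
  · have hk2 : k = 1 := by omega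
    rw [hk2, pow_one] at hc
    exact cyclic_le_center h.perf _ h0 (isCyclic_of_prime_card hc)

/-- the condition on the elements of odd order -/
def OddCentral (f : A →* J) : Prop := ∀ x : A, f x = 1 → Odd (orderOf x) → x ∈ center A

/-- **The elements of odd order of the kernel are central.** -/
theorem Cov.odd [IsSimpleGroup J] (h : Cov f)
    (har : ∀ r : ℕ, r.Prime → r ≠ 2 → r ^ 2 ∣ Nat.card f.ker → ∃ p : ℕ, p.Prime ∧ p ∣ Nat.card J ∧
      ¬ p ∣ Nat.card f.ker ∧ ∀ i, 1 ≤ i → r ^ i ∣ Nat.card f.ker → ¬ p ∣ r ^ i - 1) : OddCentral f := by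
  intro x hx hodd
  -- `Z = Z(A) ∩ ker f`
  let Z : Subgroup f.ker := (center A).subgroupOf f.ker
  have hZn : Z.Normal := inferInstance
  have hidx : ∀ r : ℕ, r.Prime → r ≠ 2 → ¬ r ∣ Z.index := by
    intro r hr hr2 hd
    have := Fact.mk hr
    obtain ⟨P⟩ : Nonempty (Sylow r f.ker) := inferInstance
    have h1 : (P : Subgroup f.ker).map f.ker.subtype ≤ center A := by
      by_cases hr2k : r ^ 2 ∣ Nat.card f.ker
      · exact h.sylow_le_center P (har r hr hr2 hr2k)
      · exact h.sylow_le_center_one P hr2k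
    have h2 : (P : Subgroup f.ker) ≤ Z := by
      intro a ha
      rw [mem_subgroupOf]
      exact h1 ⟨a, ha, rfl⟩
    have h3 : Z.index ∣ (P : Subgroup f.ker).index := index_dvd_of_le h2
    exact P.not_dvd_index (hd.trans h3)
  have hmem : (⟨x, MonoidHom.mem_ker.2 hx⟩ : f.ker) ∈ Z := by
    rw [← QuotientGroup.eq_one_iff, ← orderOf_eq_one_iff]
    have h1 : orderOf ((⟨x, MonoidHom.mem_ker.2 hx⟩ : f.ker) : f.ker ⧸ Z) ∣ orderOf x := by
      have h2 := orderOf_map_dvd (QuotientGroup.mk' Z) (⟨x, MonoidHom.mem_ker.2 hx⟩ : f.ker)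
      rwa [Subgroup.orderOf_mk] at h2
    have h2 : orderOf ((⟨x, MonoidHom.mem_ker.2 hx⟩ : f.ker) : f.ker ⧸ Z) ∣ Z.index := orderOf_dvd_natCard _
    by_contra hne
    obtain ⟨r, hr, hrd⟩ := Nat.exists_prime_and_dvd hne
    apply hidx r hr ?_ (hrd.trans h2)
    rintro rfl
    have h3 := hrd.trans h1
    rw [← Nat.not_even_iff_odd] at hodd
    exact hodd (even_iff_two_dvd.2 h3)
  exact mem_subgroupOf.1 hmem

/-! ### A central involution in the kernel -/

/-- **A central involution in the kernel**: `2` divides the order of the kernel, the `2`-rank of `A` is at most `d`, and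
`p ∤ 2 ^ i - 1` for `1 ≤ i ≤ d`. -/
theorem Cov.exists_two [IsSimpleGroup J] (h : Cov f) (h2 : 2 ∣ Nat.card f.ker) {d : ℕ} (hd : PRankLE 2 d A)
    {p : ℕ} (hp : p.Prime) (hp2 : p ≠ 2) (hpJ : p ∣ Nat.card J) (hpk : ¬ p ∣ Nat.card f.ker)
    (har : ∀ i, 1 ≤ i → i ≤ d → ¬ p ∣ 2 ^ i - 1) : ∃ z : A, f z = 1 ∧ orderOf z = 2 ∧ z ∈ center A := by
  have := Fact.mk hp
  have i2 : Fact (Nat.Prime 2) := ⟨Nat.prime_two⟩
  obtain ⟨P⟩ : Nonempty (Sylow 2 f.ker) := inferInstance
  have hTn := h.sylow_normal P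
  set T : Subgroup A := (P : Subgroup f.ker).map f.ker.subtype with hT
  have hTk : T ≤ f.ker := by
    rintro _ ⟨x, -, rfl⟩
    exact x.2
  have hTP : IsPGroup 2 ↥T := P.isPGroup'.map _
  have hT1 : Nontrivial ↥T := by
    have h3 : 2 ∣ Nat.card ↥T := by
      have h4 : Nat.card ↥T = Nat.card ↥(P : Subgroup f.ker) :=
        (Nat.card_congr (equivMapOfInjective _ f.ker.subtype f.ker.subtype_injective).toEquiv).symm
      rw [h4]
      exact P.dvd_card_of_dvd_card h2
    rw [← Finite.one_lt_card_iff_nontrivial]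
    exact lt_of_lt_of_le (by norm_num) (Nat.le_of_dvd Nat.card_pos h3)
  -- `E = Ω₁(Z(T))`
  let E : Subgroup A :=
    { carrier := {x | x ∈ T ∧ (∀ t ∈ T, x * t = t * x) ∧ x * x = 1}
      one_mem' := ⟨one_mem _, fun t _ => by rw [one_mul, mul_one], one_mul _⟩
      mul_mem' := by
        rintro a b ⟨ha, ha1, ha2⟩ ⟨hb, hb1, hb2⟩
        refine ⟨mul_mem ha hb, fun t ht => ?_, ?_⟩
        · rw [mul_assoc, hb1 t ht, ← mul_assoc, ha1 t ht, mul_assoc]
        · calc a * b * (a * b) = a * (b * a) * b := by group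
            _ = a * (a * b) * b := by rw [hb1 a ha]
            _ = (a * a) * (b * b) := by group
            _ = 1 := by rw [ha2, hb2, one_mul]
      inv_mem' := by
        rintro a ⟨ha, ha1, ha2⟩
        have h3 : a⁻¹ = a := inv_eq_of_mul_eq_one_left ha2
        rw [h3]
        exact ⟨ha, ha1, ha2⟩ }
  have hE : ∀ {x : A}, x ∈ E ↔ x ∈ T ∧ (∀ t ∈ T, x * t = t * x) ∧ x * x = 1 := Iff.rfl
  have hEn : E.Normal := by
    refine ⟨fun x hx g => ?_⟩
    rw [hE] at hx ⊢
    obtain ⟨hx, hx1, hx2⟩ := hx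
    refine ⟨hTn.conj_mem x hx g, fun t ht => ?_, ?_⟩
    · have h3 : g⁻¹ * t * g ∈ T := by
        have := hTn.conj_mem t ht g⁻¹
        rwa [inv_inv] at this
      calc g * x * g⁻¹ * t = g * (x * (g⁻¹ * t * g)) * g⁻¹ := by group
        _ = g * ((g⁻¹ * t * g) * x) * g⁻¹ := by rw [hx1 _ h3]
        _ = t * (g * x * g⁻¹) := by group
    · calc g * x * g⁻¹ * (g * x * g⁻¹) = g * (x * x) * g⁻¹ := by group
        _ = 1 := by rw [hx2, mul_one, mul_inv_cancel]
  have hEc : Nat.card ↥E ≤ 2 ^ d := by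
    apply hd E
    · refine ⟨⟨fun a b => Subtype.ext ?_⟩⟩
      exact a.2.2.1 b b.2.1
    · intro a ha
      rw [pow_two]
      exact (hE.1 ha).2.2
  obtain ⟨z, hzE, hz2⟩ : ∃ z ∈ E, orderOf z = 2 := by
    have h3 := hTP.center_nontrivial
    have h4 : IsPGroup 2 ↥(center ↥T) := hTP.to_subgroup _
    obtain ⟨k, hk⟩ := IsPGroup.iff_card.1 h4
    have h5 : 2 ∣ Nat.card ↥(center ↥T) := by
      have h6 := Finite.one_lt_card_iff_nontrivial.2 h3
      rw [hk] at h6 ⊢
      rcases Nat.eq_zero_or_pos k with rfl | hk0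
      · norm_num at h6
      · exact dvd_pow_self 2 hk0.ne'
    obtain ⟨z, hz⟩ := exists_prime_orderOf_dvd_card' 2 h5
    have h6 : orderOf ((z : ↥T) : A) = 2 := by rw [Subgroup.orderOf_coe, Subgroup.orderOf_coe, hz]
    refine ⟨((z : ↥T) : A), ⟨(z : ↥T).2, fun t ht => ?_, ?_⟩, h6⟩
    · exact congrArg Subtype.val (mem_center_iff.1 z.2 ⟨t, ht⟩).symm
    · rw [← pow_two, ← h6, pow_orderOf_eq_one]
  have hEP : IsPGroup 2 ↥E := hTP.to_le (fun x hx => (hE.1 hx).1)
  obtain ⟨e, he⟩ := IsPGroup.iff_card.1 hEP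
  have hed : e ≤ d := by
    rw [he] at hEc
    exact (Nat.pow_le_pow_iff_right (by norm_num)).1 hEc
  have hEZ : E ≤ center A := by
    apply h.central_of_arith hpJ hpk
    rw [he]
    exact ar_pow Nat.prime_two hp hp2 fun i hi hie => har i hi (hie.trans hed)
  exact ⟨z, hTk (hE.1 hzE).1, hz2, hEZ hzE⟩

end

/-! ### Central kernels -/

/-- **A central kernel has order dividing that of the multiplier.** -/
theorem Cov.card_dvd {A J : Type u} [Group A] [Group J] [Finite A] {f : A →* J} (h : Cov f)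
    (hc : f.ker ≤ center A) {k : ℕ} (hm : HasCyclicSchurMultiplier J k) : Nat.card f.ker ∣ k := by
  obtain ⟨π, hπ⟩ := hm.2 A f ⟨h.surj, hc, by rw [h.perf]; exact le_top⟩
  rcases Nat.eq_zero_or_pos k with rfl | hk
  · exact dvd_zero _
  have h1 := Subgroup.card_dvd_of_surjective π hπ
  rwa [Nat.card_congr (Multiplicative.toAdd : Multiplicative (ZMod k) ≃ ZMod k), Nat.card_zmod] at h1

/-! ### Quotients -/

section

variable {A : Type u} {A' : Type v} {J : Type*} [Group A] [Group A'] [Group J] [Finite A] {f : A →* J} {f' : A' →* J}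
  {π : A →* A'}

omit [Finite A] in
theorem Cov.quotient (h : Cov f) (hπ : Function.Surjective π) (hf : f'.comp π = f) : Cov f' := by
  refine ⟨?_, ?_, ?_⟩
  · intro j
    obtain ⟨a, rfl⟩ := h.surj j
    exact ⟨π a, by rw [← hf]; rfl⟩
  · have h6 := congrArg (Subgroup.map π) h.perf
    rwa [_root_.commutator_def, map_commutator, ← MonoidHom.range_eq_map,
      MonoidHom.range_eq_top.2 hπ] at h6
  · have hnil := h.nil
    have h1 : ∀ x : f.ker, π x ∈ f'.ker := by
      intro x
      rw [MonoidHom.mem_ker]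
      have h2 : f'.comp π x = f x := by rw [hf]
      exact h2.trans x.2
    let g : f.ker →* f'.ker := (π.comp f.ker.subtype).codRestrict f'.ker h1
    have hg : Function.Surjective g := by
      rintro ⟨y, hy⟩
      obtain ⟨a, rfl⟩ := hπ y
      have h2 : f a = 1 := by rw [← hf]; exact hy
      exact ⟨⟨a, h2⟩, rfl⟩
    exact Group.nilpotent_of_surjective g hg

/-- an element of odd order lifts to an element of odd order -/
theorem exists_odd_lift {x : A} (hx : Odd (orderOf (π x))) : ∃ y : A, y ∈ zpowers x ∧ Odd (orderOf y) ∧ π y = π x := by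
  obtain ⟨a, b, hb, hab⟩ := Nat.exists_eq_two_pow_mul_odd (orderOf_pos x).ne'
  have hcop : Nat.Coprime (2 ^ a) b := (Nat.Coprime.pow_left a (Nat.coprime_two_left.2 hb))
  obtain ⟨c, hc1, hc2⟩ := Nat.chineseRemainder hcop 0 1
  have hdvd : orderOf (π x) ∣ b := by
    have h1 : orderOf (π x) ∣ 2 ^ a * b := by rw [← hab]; exact orderOf_map_dvd π x
    exact (Nat.Coprime.pow_right a (Nat.coprime_two_right.2 hx)).dvd_of_dvd_mul_left h1
  refine ⟨x ^ c, (zpowers x).pow_mem (mem_zpowers x) c, ?_, ?_⟩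
  · have h1 : (x ^ c) ^ b = 1 := by
      rw [← pow_mul, ← orderOf_dvd_iff_pow_eq_one, hab]
      exact Nat.mul_dvd_mul_right ((Nat.modEq_zero_iff_dvd).1 hc1) b
    exact hb.of_dvd_nat (orderOf_dvd_of_pow_eq_one h1)
  · rw [map_pow]
    have h1 : c ≡ 1 [MOD orderOf (π x)] := hc2.of_dvd hdvd
    calc π x ^ c = π x ^ 1 := (pow_eq_pow_iff_modEq).2 h1
      _ = π x := pow_one _

theorem OddCentral.quotient (h : OddCentral f) (hπ : Function.Surjective π) (hf : f'.comp π = f) : OddCentral f' := by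
  intro x' hx' hodd
  obtain ⟨x, rfl⟩ := hπ x'
  obtain ⟨y, -, hy1, hy2⟩ := exists_odd_lift hodd
  have h1 : f y = 1 := by
    rw [← hf]
    change f' (π y) = 1
    rw [hy2]
    exact hx'
  have h2 := h y h1 hy1
  rw [← hy2, mem_center_iff]
  intro g
  obtain ⟨a, rfl⟩ := hπ g
  rw [← map_mul, mem_center_iff.1 h2 a, map_mul]

/-- The factorisation through the image of `π`. -/
theorem exists_push {A X J : Type*} [Group A] [Group X] [Group J] {f : A →* J} (π : A →* X)
    (hk : ∀ x, π x = 1 → f x = 1) : ∃ f₁ : ↥π.range →* J, f₁.comp π.rangeRestrict = f := by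
  have h1 : π.rangeRestrict.ker ≤ f.ker := by
    intro x hx
    apply hk
    exact congrArg Subtype.val (MonoidHom.mem_ker.1 hx)
  refine ⟨(π.rangeRestrict.liftOfSurjective π.rangeRestrict_surjective) ⟨f, h1⟩, ?_⟩
  exact MonoidHom.liftOfRightInverse_comp π.rangeRestrict _ (Function.rightInverse_surjInv π.rangeRestrict_surjective)
    ⟨f, h1⟩

theorem rank_sub {p k : ℕ} {G : Type*} [Group G] (h : PRankLE p k G) (A : Subgroup G) : PRankLE p k ↥A := by
  intro B hB hp
  have h1 := h (B.map A.subtype) ?_ ?_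
  · rwa [← Nat.card_congr (B.equivMapOfInjective _ A.subtype_injective).toEquiv] at h1
  · refine ⟨⟨?_⟩⟩
    rintro ⟨_, a, ha, rfl⟩ ⟨_, b, hb, rfl⟩
    apply Subtype.ext
    have h2 := hB.is_comm.comm ⟨a, ha⟩ ⟨b, hb⟩
    have h3 : a * b = b * a := congrArg Subtype.val h2
    exact congrArg (Subtype.val : ↥A → G) h3
  · rintro _ ⟨a, ha, rfl⟩
    exact congrArg Subtype.val (hp a ha)

/-- the commutator subgroup of `A ≤ X`, seen in `X` -/
theorem commutator_self {X : Type*} [Group X] {A : Subgroup X} (h : commutator ↥A = ⊤) : ⁅A, A⁆ = A := by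
  have h1 := congrArg (Subgroup.map A.subtype) h
  rw [_root_.commutator_def, map_commutator] at h1
  rwa [← MonoidHom.range_eq_map, Subgroup.range_subtype] at h1

/-- the kernel is central if its elements of odd order are and its `2`-elements are in a central subgroup -/
theorem OddCentral.le_center (h : OddCentral f) (h2 : ∀ x : A, f x = 1 → (∃ k, x ^ 2 ^ k = 1) → x ∈ center A) :
    f.ker ≤ center A := by
  intro x hx
  obtain ⟨a, b, hb, hab⟩ := Nat.exists_eq_two_pow_mul_odd (orderOf_pos x).ne'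
  have hcop : Nat.Coprime (2 ^ a) b := (Nat.Coprime.pow_left a (Nat.coprime_two_left.2 hb))
  have hx' : f x = 1 := hx
  have h3 : x ^ b ∈ center A := by
    apply h2
    · rw [map_pow, hx', one_pow]
    · refine ⟨a, ?_⟩
      rw [← pow_mul, mul_comm, ← hab, pow_orderOf_eq_one]
  have h4 : x ^ 2 ^ a ∈ center A := by
    apply h
    · rw [map_pow, hx', one_pow]
    · have h5 : (x ^ 2 ^ a) ^ b = 1 := by rw [← pow_mul, ← hab, pow_orderOf_eq_one]
      exact hb.of_dvd_nat (orderOf_dvd_of_pow_eq_one h5)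
  have h5 := Nat.gcd_eq_gcd_ab (2 ^ a) b
  rw [Nat.Coprime.gcd_eq_one hcop] at h5
  have h6 : x = (x ^ 2 ^ a) ^ (Nat.gcdA (2 ^ a) b) * (x ^ b) ^ (Nat.gcdB (2 ^ a) b) := by
    rw [← zpow_natCast, ← zpow_natCast, ← zpow_mul, ← zpow_mul, ← zpow_add, ← h5]
    simp
  rw [h6]
  exact mul_mem (zpow_mem h4 _) (zpow_mem h3 _)

end

end Cfsg.Agent.H329.Sec
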